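import Mathlib

/-! # Doubly transitive groups of degree congruent to 2 modulo 4

`CfsgLib.TwoTransitive.isMultiplyPretransitive_two_of_normal`: a nontrivial normal subgroup of a
doubly transitive group of degree `2 * odd` is doubly transitive, for degree bigger than 2.
-/

namespace CfsgLib.TwoTransitive

open MulAction

variable {H : Type*} [Group H] [Finite H]

/-- the sign of the regular action of a group of order twice an odd number is `-1` on elements of
even order -/
lemma regularSign_eq_neg_one {Q : Type*} [Group Q] [Fintype Q] [DecidableEq Q] {m : ℕ}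
    (hQ : Fintype.card Q = 2 * m) (hm : Odd m) (q : Q) (hq : Even (orderOf q)) :
    Equiv.Perm.sign (MulAction.toPermHom Q Q q) = -1 := by
  set χ : Q →* ℤˣ := Equiv.Perm.sign.comp (MulAction.toPermHom Q Q)
  change χ q = -1
  obtain ⟨i, hi⟩ := hq
  have hdvd : orderOf q ∣ 2 * m := hQ ▸ orderOf_dvd_card
  have hio : Odd i := by
    rw [hi, ← two_mul] at hdvd
    exact hm.of_dvd_nat (Nat.dvd_of_mul_dvd_mul_left two_pos hdvd)
  have hord : orderOf (q ^ i) = 2 := by
    have hipos : i ≠ 0 := by rintro rfl; exact absurd hio (by decide)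
    rw [orderOf_pow' q hipos, hi]
    rw [show i + i = i * 2 by omega, Nat.gcd_mul_right_left, Nat.mul_div_cancel_left _ (Nat.pos_of_ne_zero hipos)]
  have hinj : Function.Injective (MulAction.toPermHom Q Q) := MulAction.toPerm_injective
  set σ := MulAction.toPermHom Q Q (q ^ i) with hσ
  have hσo : orderOf σ = 2 := by rw [hσ, orderOf_injective _ hinj, hord]
  have hsupp : σ.support = Finset.univ := by
    ext x
    simp only [Equiv.Perm.mem_support, Finset.mem_univ, iff_true, hσ, MulAction.toPermHom_apply,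
      MulAction.toPerm_apply, smul_eq_mul, ne_eq, mul_eq_right]
    intro h
    simp [h] at hord
  obtain ⟨n, hn⟩ := Equiv.Perm.cycleType_prime_order (σ := σ) (by rw [hσo]; decide)
  rw [hσo] at hn
  have hsum : (n + 1) * 2 = 2 * m := by
    have := Equiv.Perm.sum_cycleType σ
    rw [hn, hsupp, Multiset.sum_replicate, Finset.card_univ, hQ] at this
    simpa using this
  have hsign : χ (q ^ i) = -1 := by
    show Equiv.Perm.sign σ = -1
    rw [Equiv.Perm.sign_of_cycleType, hn, Multiset.sum_replicate, Multiset.card_replicate,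
      smul_eq_mul, hsum, pow_add]
    have : n + 1 = m := by omega
    rw [this, hm.neg_one_pow, pow_mul]; simp
  rcases Int.units_eq_one_or (χ q) with h | h
  · rw [map_pow, h, one_pow] at hsign; exact absurd hsign (by decide)
  · exact h

/-- two subgroups of a subgroup `T` whose order is the full `p`-part of the order of `T` are
conjugate in `T` -/
lemma exists_conj_of_card {p : ℕ} [Fact p.Prime] {T P₁ P₂ : Subgroup H} (h₁ : P₁ ≤ T)
    (h₂ : P₂ ≤ T) (c₁ : Nat.card P₁ = p ^ (Nat.card T).factorization p)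
    (c₂ : Nat.card P₂ = p ^ (Nat.card T).factorization p) :
    ∃ t ∈ T, ∀ x, x ∈ P₁ ↔ t * x * t⁻¹ ∈ P₂ := by
  let S₁ : Sylow p T := Sylow.ofCard (P₁.subgroupOf T)
    ((Nat.card_congr (Subgroup.subgroupOfEquivOfLe h₁).toEquiv).trans c₁)
  let S₂ : Sylow p T := Sylow.ofCard (P₂.subgroupOf T)
    ((Nat.card_congr (Subgroup.subgroupOfEquivOfLe h₂).toEquiv).trans c₂)
  obtain ⟨t, ht⟩ := MulAction.exists_smul_eq T S₁ S₂
  refine ⟨t, t.2, fun x => ⟨fun hx => ?_, fun hx => ?_⟩⟩
  · have : t * ⟨x, h₁ hx⟩ * t⁻¹ ∈ (S₂ : Subgroup T) := by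
      rw [← ht, Sylow.coe_subgroup_smul, Subgroup.mem_pointwise_smul_iff_inv_smul_mem]
      simpa [S₁, MulAut.smul_def, Subgroup.mem_subgroupOf, mul_assoc] using hx
    simpa [S₂, Subgroup.mem_subgroupOf] using this
  · have hxT : x ∈ T := by
      have := T.mul_mem (T.mul_mem (T.inv_mem t.2) (h₂ hx)) t.2
      simpa [mul_assoc] using this
    have : t * ⟨x, hxT⟩ * t⁻¹ ∈ (S₂ : Subgroup T) := by
      simpa [S₂, Subgroup.mem_subgroupOf] using hx
    rw [← ht, Sylow.coe_subgroup_smul, Subgroup.mem_pointwise_smul_iff_inv_smul_mem] at this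
    simpa [S₁, MulAut.smul_def, Subgroup.mem_subgroupOf, mul_assoc] using this

lemma exists_subgroup_card_two_part (T : Subgroup H) :
    ∃ P ≤ T, Nat.card P = 2 ^ (Nat.card T).factorization 2 := by
  obtain ⟨S⟩ : Nonempty (Sylow 2 T) := inferInstance
  refine ⟨(S : Subgroup T).map T.subtype, Subgroup.map_subtype_le _, ?_⟩
  rw [Nat.card_congr ((S : Subgroup T).equivMapOfInjective _ T.subtype_injective).toEquiv.symm,
    Sylow.card_eq_multiplicity]

variable {Ω : Type*} [Fintype Ω] [MulAction H Ω]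

/-- Core lemma: in a transitive group of degree twice an odd number in which every two points can
be interchanged and all two-point stabilisers at a given point have one order, every point
stabiliser is transitive on the other points. -/
theorem stabilizer_transitive_of_swaps [IsPretransitive H Ω] {v : ℕ} (hv : Odd v)
    (hcard : Fintype.card Ω = 2 * v)
    (hswap : ∀ a b : Ω, a ≠ b → ∃ h : H, h • a = b ∧ h • b = a)
    (hconj : ∀ a b c : Ω, b ≠ a → c ≠ a →
      Nat.card ↥(stabilizer H a ⊓ stabilizer H b) = Nat.card ↥(stabilizer H a ⊓ stabilizer H c))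
    (a b c : Ω) (hb : b ≠ a) (hc : c ≠ a) : ∃ h : H, h • a = a ∧ h • b = c := by
  classical
  haveI : Fact (Nat.Prime 2) := ⟨Nat.prime_two⟩
  have hstab : ∀ x : Ω, Nat.card H = Nat.card ↥(stabilizer H x) * (2 * v) := fun x => by
    rw [← Subgroup.card_mul_index (stabilizer H x), index_stabilizer_of_transitive H x,
      Nat.card_eq_fintype_card (α := Ω), hcard]
  have hstabeq : ∀ x y : Ω, Nat.card ↥(stabilizer H x) = Nat.card ↥(stabilizer H y) := fun x y =>
    Nat.eq_of_mul_eq_mul_right (Nat.mul_pos two_pos hv.pos) ((hstab x).symm.trans (hstab y))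
  obtain ⟨P, hPle, hPc⟩ := exists_subgroup_card_two_part (stabilizer H a)
  set e := (Nat.card ↥(stabilizer H a)).factorization 2 with he
  have hPgrp : IsPGroup 2 P := IsPGroup.of_card hPc
  let F : Set Ω := MulAction.fixedPoints P Ω
  have memF : ∀ {x : Ω}, x ∈ F ↔ P ≤ stabilizer H x := by
    intro x
    exact ⟨fun h g hg => h ⟨g, hg⟩, fun h g => h g.2⟩
  have haF : a ∈ F := memF.mpr hPle
  -- a second fixed point
  obtain ⟨b₀, hb₀F, hb₀⟩ : ∃ b₀ ∈ F, b₀ ≠ a := by
    by_contra hcon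
    push Not at hcon
    have h1 : F = {a} := Set.eq_singleton_iff_unique_mem.mpr ⟨haF, hcon⟩
    have h2 := hPgrp.card_modEq_card_fixedPoints Ω
    rw [Nat.card_eq_fintype_card, hcard, show MulAction.fixedPoints P Ω = {a} from h1] at h2
    simp [Nat.ModEq, Nat.mul_mod_right] at h2
  -- two-point stabilisers at `a` have 2-part `2 ^ e`
  have hTa : ∀ d, d ≠ a →
      (Nat.card ↥(stabilizer H a ⊓ stabilizer H d)).factorization 2 = e := by
    intro d hd
    rw [hconj a d b₀ hd hb₀]
    apply le_antisymm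
    · exact (Nat.factorization_le_iff_dvd Nat.card_pos.ne' Nat.card_pos.ne').mpr
        (Subgroup.card_dvd_of_le inf_le_left) 2
    · rw [← (Nat.Prime.pow_dvd_iff_le_factorization Nat.prime_two Nat.card_pos.ne'), ← hPc]
      exact Subgroup.card_dvd_of_le (le_inf hPle (memF.mp hb₀F))
  -- every orbit of the stabiliser of `a` meets `F`
  have hmeet : ∀ d, d ≠ a → ∃ h : H, h • a = a ∧ h • d ∈ F ∧ h • d ≠ a := by
    intro d hd
    obtain ⟨P', hP'le, hP'c⟩ := exists_subgroup_card_two_part (stabilizer H a ⊓ stabilizer H d)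
    rw [hTa d hd] at hP'c
    obtain ⟨s, hs, hiff⟩ := exists_conj_of_card (p := 2) hPle (hP'le.trans inf_le_left) hPc hP'c
    have hsa : s⁻¹ • a = a := inv_smul_eq_iff.mpr (show s • a = a from hs).symm
    refine ⟨s⁻¹, hsa, memF.mpr fun x hx => ?_, fun h => hd ?_⟩
    · have := (hP'le ((hiff x).mp hx)).2
      have e1 : (s * x * s⁻¹) • d = d := this
      show x • s⁻¹ • d = s⁻¹ • d
      rw [smul_smul] at *
      conv_rhs => rw [← e1]
      rw [smul_smul]; group
    · exact smul_left_cancel s⁻¹ (h.trans hsa.symm)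
  -- `F` has only one point other than `a`
  suffices huniq : ∀ x ∈ F, x ≠ a → x = b₀ by
    obtain ⟨h₁, h₁a, h₁F, h₁ne⟩ := hmeet b hb
    obtain ⟨h₂, h₂a, h₂F, h₂ne⟩ := hmeet c hc
    refine ⟨h₂⁻¹ * h₁, ?_, ?_⟩
    · rw [mul_smul, h₁a, inv_smul_eq_iff, h₂a]
    · rw [mul_smul, inv_smul_eq_iff, huniq _ h₁F h₁ne, huniq _ h₂F h₂ne]
  intro x hxF hxa
  by_contra hxb
  set R := Subgroup.normalizer (P : Set H) with hR
  -- interchanges inside the normaliser
  have hswapR : ∀ y, y ∈ F → y ≠ a → ∃ r ∈ R, r • a = y ∧ r • y = a := by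
    intro y hyF hya
    obtain ⟨t, ht1, ht2⟩ := hswap a y (Ne.symm hya)
    have hT := hTa y hya
    have hPT : P ≤ stabilizer H a ⊓ stabilizer H y := le_inf hPle (memF.mp hyF)
    have hPt : P.map (MulAut.conj t).toMonoidHom ≤ stabilizer H a ⊓ stabilizer H y := by
      rintro _ ⟨g, hg, rfl⟩
      have g1 : g • a = a := (hPT hg).1
      have g2 : g • y = y := (hPT hg).2
      have i1 : t⁻¹ • a = y := inv_smul_eq_iff.mpr ht2.symm
      have i2 : t⁻¹ • y = a := inv_smul_eq_iff.mpr ht1.symm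
      constructor <;> simp [mul_smul, i1, i2, g1, g2, ht1, ht2]
    have hc' : Nat.card ↥(P.map (MulAut.conj t).toMonoidHom) = 2 ^ e := by
      rw [← Nat.card_congr (P.equivMapOfInjective (MulAut.conj t).toMonoidHom
        (MulAut.conj t).injective).toEquiv, hPc]
    obtain ⟨s, hs, hiff⟩ := exists_conj_of_card (p := 2) hPt hPT (by rw [hc', hT]) (by rw [hPc, hT])
    refine ⟨s * t, ?_, by rw [mul_smul, ht1]; exact hs.2, by rw [mul_smul, ht2]; exact hs.1⟩
    rw [hR, Subgroup.mem_normalizer_iff]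
    intro z
    constructor
    · intro hz
      have := (hiff _).mp ⟨z, hz, rfl⟩
      simpa [mul_assoc] using this
    · intro hz
      obtain ⟨w, hw, hwe⟩ := (hiff (t * z * t⁻¹)).mpr (by simpa [mul_assoc] using hz)
      have : w = z := by simpa using hwe
      exact this ▸ hw
  set P' := P.subgroupOf R with hP'
  haveI : P'.Normal := by
    rw [hP']; exact Subgroup.normal_subgroupOf_of_le_normalizer (le_refl _)
  have hPR : P ≤ R := Subgroup.le_normalizer
  letI : Fintype (R ⧸ P') := Fintype.ofFinite _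
  have hQ : Nat.card (R ⧸ P') * 2 ^ e = Nat.card R := by
    rw [← hPc, ← Nat.card_congr (Subgroup.subgroupOfEquivOfLe hPR).toEquiv,
      ← Subgroup.index_eq_card, Subgroup.index_mul_card]
  -- fixing `a` gives odd order modulo `P`
  have hfix : ∀ r : R, (r : H) • a = a → ¬ Even (orderOf (QuotientGroup.mk' P' r)) := by
    intro r hr
    set T := stabilizer H a ⊓ R with hT
    have hPT : P ≤ T := le_inf hPle hPR
    haveI : (P.subgroupOf T).Normal := Subgroup.normal_subgroupOf_of_le_normalizer inf_le_right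
    have hjo : ¬ 2 ∣ (P.subgroupOf T).index := by
      intro h2
      have h3 : 2 ^ e * 2 ∣ Nat.card ↥(stabilizer H a) := by
        refine dvd_trans ?_ (Subgroup.card_dvd_of_le (inf_le_left : T ≤ _))
        rw [← Subgroup.card_mul_index (P.subgroupOf T),
          Nat.card_congr (Subgroup.subgroupOfEquivOfLe hPT).toEquiv, hPc]
        exact Nat.mul_dvd_mul_left _ h2
      rw [← pow_succ, Nat.Prime.pow_dvd_iff_le_factorization Nat.prime_two Nat.card_pos.ne'] at h3
      omega
    have hmem := Subgroup.pow_index_mem (P.subgroupOf T) (⟨r, hr, r.2⟩ : T)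
    rw [Subgroup.mem_subgroupOf] at hmem
    have : orderOf (QuotientGroup.mk' P' r) ∣ (P.subgroupOf T).index := by
      rw [orderOf_dvd_iff_pow_eq_one, ← map_pow, QuotientGroup.mk'_apply, QuotientGroup.eq_one_iff,
        hP', Subgroup.mem_subgroupOf]
      simpa using hmem
    exact fun hev => hjo (hev.two_dvd.trans this)
  -- moving `a` as an interchange gives even order modulo `P`
  have hmove : ∀ (r : R) (y : Ω), y ≠ a → (r : H) • a = y → (r : H) • y = a →
      Even (orderOf (QuotientGroup.mk' P' r)) := by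
    intro r y hy h1 h2
    by_contra hodd
    obtain ⟨k, hk⟩ := Nat.not_even_iff_odd.mp hodd
    have hmem : ((r ^ orderOf (QuotientGroup.mk' P' r) : R) : H) ∈ P := by
      rw [← Subgroup.mem_subgroupOf, ← hP', ← QuotientGroup.eq_one_iff, ← QuotientGroup.mk'_apply,
        map_pow, pow_orderOf_eq_one]
    have h := hPle hmem
    rw [mem_stabilizer_iff, hk, SubgroupClass.coe_pow, pow_succ, mul_smul, h1] at h
    have hsq : ∀ k : ℕ, (r : H) ^ (2 * k) • y = y := by
      intro k
      induction k with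
      | zero => simp
      | succ k ih => rw [Nat.mul_succ, pow_add, mul_smul, pow_two, mul_smul, h2, h1, ih]
    exact hy ((hsq k).symm.trans h)
  -- the quotient has order twice an odd number
  obtain ⟨r₁, hr₁, r₁a, r₁y⟩ := hswapR x hxF hxa
  obtain ⟨r₂, hr₂, r₂a, r₂y⟩ := hswapR b₀ hb₀F hb₀
  have heven : 2 ∣ Fintype.card (R ⧸ P') :=
    ((hmove ⟨r₁, hr₁⟩ x hxa r₁a r₁y).two_dvd).trans orderOf_dvd_card
  have h4 : ¬ 4 ∣ Fintype.card (R ⧸ P') := by
    intro h
    have h3 : 4 * 2 ^ e ∣ Nat.card ↥(stabilizer H a) * (2 * v) := by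
      rw [← hstab a]
      rw [← Nat.card_eq_fintype_card] at h
      exact (hQ ▸ Nat.mul_dvd_mul_right h (2 ^ e)).trans (Subgroup.card_subgroup_dvd_card R)
    have h5 : 2 * 2 ^ e ∣ Nat.card ↥(stabilizer H a) * v := by
      have : 2 * (2 * 2 ^ e) ∣ 2 * (Nat.card ↥(stabilizer H a) * v) := by
        convert h3 using 1 <;> ring
      exact Nat.dvd_of_mul_dvd_mul_left two_pos this
    rw [mul_comm, ← pow_succ] at h5
    have := (Nat.Coprime.pow_left (e + 1) (Nat.coprime_two_left.mpr hv)).dvd_of_dvd_mul_right h5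
    rw [Nat.Prime.pow_dvd_iff_le_factorization Nat.prime_two Nat.card_pos.ne'] at this
    omega
  obtain ⟨m, hm⟩ := heven
  have hmo : Odd m := by
    rw [← Nat.not_even_iff_odd]
    rintro ⟨k, rfl⟩
    exact h4 ⟨k, by omega⟩
  let χ : R →* ℤˣ := (Equiv.Perm.sign.comp (MulAction.toPermHom (R ⧸ P') (R ⧸ P'))).comp
    (QuotientGroup.mk' P')
  have hχ : ∀ r : R, (Even (orderOf (QuotientGroup.mk' P' r)) → χ r = -1) :=
    fun r h => regularSign_eq_neg_one hm hmo _ h
  have hχ1 : ∀ r : R, (r : H) • a = a → χ r = 1 := by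
    intro r hr
    rcases Int.units_eq_one_or (χ r) with h | h
    · exact h
    · exfalso
      have hodd := Nat.not_even_iff_odd.mp (hfix r hr)
      have := congrArg (Equiv.Perm.sign.comp (MulAction.toPermHom (R ⧸ P') (R ⧸ P')))
        (pow_orderOf_eq_one (QuotientGroup.mk' P' r))
      rw [map_pow, map_one, show Equiv.Perm.sign.comp (MulAction.toPermHom (R ⧸ P') (R ⧸ P'))
        (QuotientGroup.mk' P' r) = χ r from rfl, h, hodd.neg_one_pow] at this
      exact absurd this (by decide)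
  -- interchange of `x` and `b₀` in the normaliser
  obtain ⟨t, ht1, ht2⟩ := hswap a x (Ne.symm hxa)
  let q : R := ⟨r₁ * r₂ * r₁⁻¹, R.mul_mem (R.mul_mem hr₁ hr₂) (R.inv_mem hr₁)⟩
  -- `q` interchanges `x` and `r₁ • b₀`
  have hq : χ q = -1 := by
    have h0 : q = ⟨r₁, hr₁⟩ * ⟨r₂, hr₂⟩ * ⟨r₁, hr₁⟩⁻¹ := rfl
    rw [h0, map_mul, map_mul, map_inv, hχ _ (hmove ⟨r₂, hr₂⟩ b₀ hb₀ r₂a r₂y),
      hχ _ (hmove ⟨r₁, hr₁⟩ x hxa r₁a r₁y)]
    decide
  -- the interchange of `a` and `r₁ • b₀`
  have hzF : r₁ • b₀ ∈ F := by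
    refine memF.mpr fun g hg => ?_
    have hg' : r₁⁻¹ * g * r₁ ∈ P := (Subgroup.mem_normalizer_iff''.mp hr₁ g).mp hg
    have := memF.mp hb₀F hg'
    rw [mem_stabilizer_iff, mul_smul, mul_smul, inv_smul_eq_iff] at this
    exact this
  have hza : r₁ • b₀ ≠ a := fun h => hxb (smul_left_cancel r₁ (r₁y.trans h.symm))
  obtain ⟨r₃, hr₃, r₃a, r₃y⟩ := hswapR _ hzF hza
  have hw : (r₁⁻¹ : H) • x = a := inv_smul_eq_iff.mpr r₁a.symm
  have key : χ (⟨r₃, hr₃⟩⁻¹ * q * ⟨r₁, hr₁⟩) = 1 := hχ1 _ (by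
    show ((r₃⁻¹ : H) * (r₁ * r₂ * r₁⁻¹) * r₁) • a = a
    simp only [mul_smul, r₁a, hw, r₂a, inv_smul_eq_iff, r₃a])
  rw [map_mul, map_mul, map_inv, hq, hχ _ (hmove ⟨r₁, hr₁⟩ x hxa r₁a r₁y),
    hχ _ (hmove ⟨r₃, hr₃⟩ _ hza r₃a r₃y)] at key
  exact absurd key (by decide)

variable {G : Type*} [Group G] [Finite G] [MulAction G Ω] [FaithfulSMul G Ω]

/-- A nontrivial normal subgroup of a doubly transitive group of degree `n ≡ 2 [MOD 4]`, `n > 2`,
is doubly transitive. -/
theorem isMultiplyPretransitive_two_of_normal (h2 : IsMultiplyPretransitive G Ω 2)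
    (hn : Fintype.card Ω % 4 = 2) (N : Subgroup G) [N.Normal] (hN : N ≠ ⊥) :
    IsMultiplyPretransitive N Ω 2 := by
  classical
  haveI := h2
  haveI : IsPreprimitive G Ω := isPreprimitive_of_is_two_pretransitive h2
  have hmoved : MulAction.fixedPoints N Ω ≠ Set.univ := by
    intro h
    apply hN
    rw [eq_bot_iff]
    intro g hg
    rw [Subgroup.mem_bot]
    refine FaithfulSMul.eq_of_smul_eq_smul (α := Ω) fun x => ?_
    rw [one_smul]
    exact (h ▸ Set.mem_univ x : x ∈ MulAction.fixedPoints N Ω) ⟨g, hg⟩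
  haveI htr : IsPretransitive N Ω := IsQuasiPreprimitive.isPretransitive_of_normal hmoved
  have two : ∀ {a b c d : Ω}, a ≠ b → c ≠ d → ∃ g : G, g • a = c ∧ g • b = d :=
    is_two_pretransitive_iff.mp h2
  obtain ⟨v, hv, hvo⟩ : ∃ v, Fintype.card Ω = 2 * v ∧ Odd v :=
    ⟨Fintype.card Ω / 2, by omega, by rw [Nat.odd_iff]; omega⟩
  have hswap : ∀ a b : Ω, a ≠ b → ∃ h : N, h • a = b ∧ h • b = a := by
    intro a b hab
    haveI : Nonempty Ω := ⟨a⟩
    obtain ⟨t, ht⟩ : ∃ t : N, orderOf t = 2 := by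
      haveI : Fact (Nat.Prime 2) := ⟨Nat.prime_two⟩
      refine exists_prime_orderOf_dvd_card' 2 ?_
      rw [← Subgroup.card_mul_index (stabilizer N a), index_stabilizer_of_transitive N a,
        Nat.card_eq_fintype_card (α := Ω), hv]
      exact Dvd.dvd.mul_left (dvd_mul_right 2 v) _
    obtain ⟨x, hx⟩ : ∃ x : Ω, t • x ≠ x := by
      by_contra hc
      push Not at hc
      have : t = 1 := Subtype.ext (FaithfulSMul.eq_of_smul_eq_smul (α := Ω) fun x => by
        rw [Subgroup.coe_one, one_smul]; exact hc x)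
      simp [this] at ht
    obtain ⟨g, hg1, hg2⟩ := two (Ne.symm hx) hab
    refine ⟨⟨g * t * g⁻¹, Subgroup.Normal.conj_mem ‹N.Normal› _ t.2 g⟩, ?_, ?_⟩
    · show (g * t * g⁻¹) • a = b
      rw [mul_smul, mul_smul, inv_smul_eq_iff.mpr hg1.symm]
      exact hg2
    · show (g * t * g⁻¹) • b = a
      rw [mul_smul, mul_smul, inv_smul_eq_iff.mpr hg2.symm]
      have : t * t = 1 := by rw [← pow_two, ← ht, pow_orderOf_eq_one]
      have h' : t • t • x = x := by rw [smul_smul, this, one_smul]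
      exact (congrArg (g • ·) h').trans hg1
  have hconj : ∀ a b c : Ω, b ≠ a → c ≠ a →
      Nat.card ↥(stabilizer N a ⊓ stabilizer N b) = Nat.card ↥(stabilizer N a ⊓ stabilizer N c) := by
    intro a b c hb hc
    obtain ⟨g, hga, hgb⟩ := two (Ne.symm hb) (Ne.symm hc)
    let φ : N ≃* N := MulAut.conjNormal g
    refine Nat.card_congr (φ.toEquiv.subtypeEquiv fun h => ?_)
    show (h : G) • a = a ∧ (h : G) • b = b ↔ ((φ h : N) : G) • a = a ∧ ((φ h : N) : G) • c = c
    simp only [φ, MulAut.conjNormal_apply, mul_smul, inv_smul_eq_iff.mpr hga.symm,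
      inv_smul_eq_iff.mpr hgb.symm]
    conv_rhs => rw [← smul_left_cancel_iff g⁻¹, inv_smul_smul, inv_smul_eq_iff.mpr hga.symm,
      ← smul_left_cancel_iff g⁻¹ (x := g • _) (y := c), inv_smul_smul, inv_smul_eq_iff.mpr hgb.symm]
  refine is_two_pretransitive_iff.mpr fun {p q r s} hpq hrs => ?_
  obtain ⟨g, hg⟩ := exists_smul_eq N p r
  have hne : g • q ≠ r := fun h => hpq (smul_left_cancel g (hg.trans h.symm))
  obtain ⟨h, hh1, hh2⟩ := stabilizer_transitive_of_swaps hvo hv hswap hconj r (g • q) s hne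
    (Ne.symm hrs)
  exact ⟨h * g, by rw [mul_smul, hg, hh1], by rw [mul_smul, hh2]⟩

/-- The centraliser of such a normal subgroup is trivial. -/
theorem centralizer_eq_bot (h2 : IsMultiplyPretransitive G Ω 2)
    (hn : Fintype.card Ω % 4 = 2) (hn2 : 2 < Fintype.card Ω) (N : Subgroup G) [N.Normal]
    (hN : N ≠ ⊥) : Subgroup.centralizer (N : Set G) = ⊥ := by
  by_contra hC
  haveI := isMultiplyPretransitive_two_of_normal h2 hn (Subgroup.centralizer (N : Set G)) hC
  haveI hN2 := isMultiplyPretransitive_two_of_normal h2 hn N hN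
  haveI : IsPretransitive (Subgroup.centralizer (N : Set G)) Ω :=
    isPretransitive_of_is_two_pretransitive
  obtain ⟨a, b, c, hab, hac, hbc⟩ := Fintype.two_lt_card_iff.mp hn2
  obtain ⟨g, hga, hgb⟩ := is_two_pretransitive_iff.mp hN2 hab hac
  apply hbc
  have hall : ∀ x : Ω, g • x = x := by
    intro x
    obtain ⟨z, hz⟩ := exists_smul_eq (Subgroup.centralizer (N : Set G)) a x
    have hcomm := Subgroup.mem_centralizer_iff.mp z.2 g g.2
    rw [← hz]
    show (g : G) • (z : G) • a = (z : G) • a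
    rw [smul_smul, hcomm, mul_smul]
    exact congrArg ((z : G) • ·) hga
  rw [← hgb, hall]

end CfsgLib.TwoTransitive

namespace CfsgLib.TwoTransitive

open MulAction

/-- Doubly transitive of degree `n ≡ 2 [MOD 4]`, `n > 2`: there is a nontrivial normal subgroup
contained in all others. -/
theorem exists_least_normal {G : Type*} [Group G] [Finite G] {Ω : Type*} [Fintype Ω]
    [MulAction G Ω] [FaithfulSMul G Ω] (h2 : IsMultiplyPretransitive G Ω 2)
    (hn : Fintype.card Ω % 4 = 2) (hn2 : 2 < Fintype.card Ω) :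
    ∃ M : Subgroup G, M.Normal ∧ M ≠ ⊥ ∧ ∀ N : Subgroup G, N.Normal → N ≠ ⊥ → M ≤ N := by
  have htop : (⊤ : Subgroup G) ≠ ⊥ := by
    intro h
    obtain ⟨a, b, c, hab, hac, hbc⟩ := Fintype.two_lt_card_iff.mp hn2
    obtain ⟨g, hga, hgb⟩ := is_two_pretransitive_iff.mp h2 hab hac
    have : g = 1 := Subgroup.mem_bot.mp (h ▸ Subgroup.mem_top g)
    exact hbc (by rw [← hgb, this, one_smul])
  obtain ⟨M, hM⟩ := (Set.toFinite {N : Subgroup G | N.Normal ∧ N ≠ ⊥}).exists_minimal
    ⟨⊤, inferInstance, htop⟩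
  haveI : M.Normal := hM.prop.1
  refine ⟨M, inferInstance, hM.prop.2, fun N hN hN' => ?_⟩
  by_cases hbot : M ⊓ N = ⊥
  · exfalso
    have : N ≤ Subgroup.centralizer (M : Set G) := fun n hn' m hm =>
      Subgroup.commute_of_normal_of_disjoint M N inferInstance hN
        (disjoint_iff.mpr hbot) m n hm hn'
    rw [centralizer_eq_bot h2 hn hn2 M hM.prop.2] at this
    exact hN' (le_bot_iff.mp this)
  · exact (hM.le_of_le ⟨inferInstance, hbot⟩ inf_le_left).trans inf_le_right

/-- The least normal subgroup is simple. -/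
theorem isSimpleGroup_of_least {G : Type*} [Group G] [Finite G] {Ω : Type*} [Fintype Ω]
    [MulAction G Ω] [FaithfulSMul G Ω] (h2 : IsMultiplyPretransitive G Ω 2)
    (hn : Fintype.card Ω % 4 = 2) (hn2 : 2 < Fintype.card Ω) (M : Subgroup G) [M.Normal]
    (hM : M ≠ ⊥) (hle : ∀ N : Subgroup G, N.Normal → N ≠ ⊥ → M ≤ N) : IsSimpleGroup M := by
  haveI : Nontrivial M := (Subgroup.nontrivial_iff_ne_bot M).mpr hM
  obtain ⟨M₀, hM₀n, hM₀, hu₀⟩ := exists_least_normal
    (isMultiplyPretransitive_two_of_normal h2 hn M hM) hn hn2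
  have hnormal : (M₀.map M.subtype).Normal := by
    constructor
    rintro _ ⟨m, hm, rfl⟩ g
    set φ : M ≃* M := MulAut.conjNormal g
    have hsub : M₀ ≤ M₀.map φ.toMonoidHom :=
      hu₀ _ (hM₀n.map _ φ.surjective)
        (fun h => hM₀ ((Subgroup.map_eq_bot_iff_of_injective _ φ.injective).mp h))
    have heq : M₀ = M₀.map φ.toMonoidHom :=
      Subgroup.eq_of_le_of_card_ge hsub (le_of_eq (Nat.card_congr
        (M₀.equivMapOfInjective φ.toMonoidHom φ.injective).toEquiv.symm))
    refine ⟨φ m, ?_, by simp [φ]⟩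
    show _ ∈ M₀
    rw [heq]
    exact ⟨m, hm, rfl⟩
  have htop : M₀ = ⊤ := by
    rw [eq_top_iff]
    intro x _
    obtain ⟨y, hy, hyx⟩ := hle _ hnormal
      (fun h => hM₀ ((Subgroup.map_eq_bot_iff_of_injective _ M.subtype_injective).mp h)) x.2
    exact (Subtype.ext hyx : y = x) ▸ hy
  exact ⟨fun N hN => or_iff_not_imp_left.mpr fun hN' => top_le_iff.mp (htop ▸ hu₀ N hN hN')⟩

end CfsgLib.TwoTransitive
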